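import Groth.Agent.ModPairFrac.Basic

/-!
# Divisors, boxes and ambient products of modulus pairs
-/

set_option backward.isDefEq.respectTransparency false
set_option backward.isDefEq.respectTransparency.types false
set_option linter.style.haveILetI false
set_option linter.unusedSectionVars false
set_option autoImplicit false

universe u

open CategoryTheory AlgebraicGeometry Limits ModPair TopologicalSpace
open Groth.Agent.BlowUpLib

namespace Groth.Agent.ModPairFrac

variable {X Y Z W S T : Scheme.{u}}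

theorem mul_mono_right (A : X.IdealSheafData) {B C : X.IdealSheafData} (h : B ≤ C) : A * B ≤ A * C := fun U => by
  rw [Scheme.IdealSheafData.ideal_mul, Scheme.IdealSheafData.ideal_mul]
  exact Ideal.mul_mono_right (h U)

theorem isLocPrincipal_of_cartier {I : X.IdealSheafData} (hI : BlowUp.IsEffCartierIdeal I) :
    HTop.IsLocPrincipal I := fun x => by
  obtain ⟨U, hU, g, -, he⟩ := hI x
  exact ⟨U, hU, g, he⟩

/-- A locally principal ideal sheaf containing an effective Cartier one is effective Cartier. -/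
theorem cartier_of_le {I K : X.IdealSheafData} (hI : BlowUp.IsEffCartierIdeal I) (hK : HTop.IsLocPrincipal K)
    (h : I ≤ K) : BlowUp.IsEffCartierIdeal K := fun x => by
  obtain ⟨U, hU, b, hb⟩ := hK x
  obtain ⟨W, hxW, hWU, g, hg, he⟩ := exists_small_generator hI (O := U.1) hU
  have hle : W.1 ≤ U.1 := hWU
  have hKW : K.ideal W = Ideal.span {(X.presheaf.map (homOfLE hle).op).hom b} := by
    rw [← K.map_ideal hle, hb, Ideal.map_span, Set.image_singleton]
    rfl
  have hgm : g ∈ K.ideal W := h W (he ▸ Ideal.subset_span rfl)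
  obtain ⟨c, hc⟩ := Ideal.mem_span_singleton'.1 (hKW ▸ hgm)
  exact ⟨W, hxW, _, (mul_mem_nonZeroDivisors.1 (hc ▸ hg)).2, hKW⟩

theorem cartier_comap_of_ambient {I : X.IdealSheafData} {J : Y.IdealSheafData}
    (hI : BlowUp.IsEffCartierIdeal I) (hJ : BlowUp.IsEffCartierIdeal J) {f : X ⟶ Y} (hf : IsAmbient I J f) :
    BlowUp.IsEffCartierIdeal (J.comap f) :=
  cartier_of_le hI (AlmostBlow.isLocPrincipal_comap (isLocPrincipal_of_cartier hJ) f) hf

/-- Effective Cartier ideals cancel. -/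
theorem le_of_mul_le_mul {K L E : X.IdealSheafData} (hE : BlowUp.IsEffCartierIdeal E) (h : K * E ≤ L * E) :
    K ≤ L := by
  choose U hU g hg he using hE
  refine Scheme.IdealSheafData.le_of_iSup_eq_top U
    (top_le_iff.1 fun x _ => Opens.mem_iSup.2 ⟨x, hU x⟩) fun x a ha => ?_
  have h1 := h (U x)
  rw [Scheme.IdealSheafData.ideal_mul, Scheme.IdealSheafData.ideal_mul, Pi.mul_apply, Pi.mul_apply, he x] at h1
  obtain ⟨z, hz, hza⟩ := Ideal.mem_mul_span_singleton.1 (h1 (Ideal.mul_mem_mul ha (Ideal.subset_span rfl)))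
  exact (mul_cancel_right_mem_nonZeroDivisors (hg x)).1 hza ▸ hz

theorem ker_ι_interior {I : X.IdealSheafData} (hI : BlowUp.IsEffCartierIdeal I) : (interior I).ι.ker = ⊥ :=
  AlmostBlow.supportedOn_eq_bot hI

theorem schDominant_homOfLE (I : X.IdealSheafData) (hI : BlowUp.IsEffCartierIdeal I) (W : X.Opens) :
    IsSchemeTheoreticallyDominant (X.homOfLE (inf_le_right : interior I ⊓ W ≤ W)) := by
  haveI : Flat W.ι := inferInstance
  have hc := cartier_comap_flat hI W.ι
  have hr : Set.range (X.homOfLE (inf_le_right : interior I ⊓ W ≤ W)) = Set.range (interior (I.comap W.ι)).ι := by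
    rw [Scheme.Opens.range_ι]
    show _ = (↑(HTop.awayFrom (I.comap W.ι)) : Set W.toScheme)
    rw [AlmostBlow.awayFrom_comap]
    ext ⟨x, hx⟩
    constructor
    · rintro ⟨y, hy⟩
      have := congrArg Subtype.val hy
      simp only [Scheme.homOfLE_apply] at this
      exact (this ▸ y.2.1 : x ∈ interior I)
    · exact fun hxI => ⟨⟨x, hxI, hx⟩, Subtype.ext (by simp [Scheme.homOfLE_apply])⟩
  let e := IsOpenImmersion.isoOfRangeEq _ _ hr
  refine ⟨?_⟩
  rw [← IsOpenImmersion.isoOfRangeEq_hom_fac _ _ hr]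
  exact (Scheme.Hom.ker_comp_of_isIso e.hom (interior (I.comap W.ι)).ι).trans (ker_ι_interior hc)

theorem cartier_of_schDominant (I : Y.IdealSheafData) (hI : BlowUp.IsEffCartierIdeal I) (f : X ⟶ Y)
    [IsSchemeTheoreticallyDominant (f ⁻¹ᵁ interior I).ι] : BlowUp.IsEffCartierIdeal (I.comap f) := by
  have hb : HTop.supportedOn (I.comap f) = ⊥ := by
    show (HTop.awayFrom (I.comap f)).ι.ker = ⊥
    rw [AlmostBlow.awayFrom_comap]
    exact Scheme.Hom.ker_eq_bot (f ⁻¹ᵁ interior I).ι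
  have hc2 := AlmostBlow.cartier_comap_subschemeι (AlmostBlow.isLocPrincipal_comap (isLocPrincipal_of_cartier hI) f)
  haveI : IsIso (HTop.supportedOn (I.comap f)).subschemeι :=
    isIso_of_factor _ (U := ⊤) (by rw [← X.topIso_hom]; exact Scheme.Hom.ker_eq_bot_of_isIso _)
      (IsClosedImmersion.lift _ _ (by rw [Scheme.IdealSheafData.ker_subschemeι, hb]; exact bot_le))
      (IsClosedImmersion.lift_fac _ _ _)
  have h2 := cartier_comap_flat hc2 (inv (HTop.supportedOn (I.comap f)).subschemeι)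
  rwa [← Scheme.IdealSheafData.comap_comp, IsIso.inv_hom_id, Scheme.IdealSheafData.comap_id] at h2

section Box

variable (f : X ⟶ S) (g : T ⟶ S) (I : X.IdealSheafData) (J : T.IdealSheafData)

theorem prodInterior_eq :
    prodInterior f g I J = HTop.awayFrom (I.comap (pullback.fst f g) * J.comap (pullback.snd f g)) := by
  ext1
  simp [prodInterior, HTop.awayFrom, ModPair.interior, Set.compl_union]

theorem ker_prodInterior :
    (prodInterior f g I J).ι.ker = HTop.supportedOn (I.comap (pullback.fst f g) * J.comap (pullback.snd f g)) := by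
  rw [prodInterior_eq]
  rfl

theorem isIso_mprodι (h : (prodInterior f g I J).ι.ker = ⊥) : IsIso (mprodι f g I J) :=
  isIso_of_factor _ h _ (Scheme.Hom.toImage_imageι _)

/-- Morphisms along which both moduli stay effective Cartier factor through the box. -/
theorem exists_lift_mprod (k : W ⟶ pullback f g)
    (h1 : BlowUp.IsEffCartierIdeal (I.comap (k ≫ pullback.fst f g)))
    (h2 : BlowUp.IsEffCartierIdeal (J.comap (k ≫ pullback.snd f g))) :
    ∃ l : W ⟶ mprod f g I J, l ≫ mprodι f g I J = k := by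
  have hc : BlowUp.IsEffCartierIdeal ((I.comap (pullback.fst f g) * J.comap (pullback.snd f g)).comap k) := by
    rw [comap_mul, ← Scheme.IdealSheafData.comap_comp, ← Scheme.IdealSheafData.comap_comp]
    exact cartier_mul h1 h2
  refine ⟨IsClosedImmersion.lift (mprodι f g I J) k ?_, IsClosedImmersion.lift_fac _ _ _⟩
  rw [Scheme.IdealSheafData.ker_subschemeι, ker_prodInterior]
  exact AlmostBlow.supportedOn_le_ker k hc

variable {I J}

theorem cartier_mprod (hI : BlowUp.IsEffCartierIdeal I) (hJ : BlowUp.IsEffCartierIdeal J) :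
    BlowUp.IsEffCartierIdeal (I.comap (mprodι f g I J ≫ pullback.fst f g)) ∧
      BlowUp.IsEffCartierIdeal (J.comap (mprodι f g I J ≫ pullback.snd f g)) := by
  set P := I.comap (pullback.fst f g) * J.comap (pullback.snd f g)
  have hlp : HTop.IsLocPrincipal P := by
    intro z
    obtain ⟨U, hU, a, ha⟩ := AlmostBlow.isLocPrincipal_comap (isLocPrincipal_of_cartier hI) (pullback.fst f g) z
    obtain ⟨V, hV, b, hb⟩ := AlmostBlow.isLocPrincipal_comap (isLocPrincipal_of_cartier hJ) (pullback.snd f g) z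
    obtain ⟨O, hO, hzO, hle⟩ := exists_isAffineOpen_mem_and_subset (X := pullback f g) (U := U.1 ⊓ V.1) ⟨hU, hV⟩
    have h1 : (⟨O, hO⟩ : (pullback f g).affineOpens) ≤ U := fun _ h => (hle h).1
    have h2 : (⟨O, hO⟩ : (pullback f g).affineOpens) ≤ V := fun _ h => (hle h).2
    exact ⟨⟨O, hO⟩, hzO, _, by
      rw [Scheme.IdealSheafData.ideal_mul, Pi.mul_apply,
        ← (I.comap (pullback.fst f g)).map_ideal h1, ← (J.comap (pullback.snd f g)).map_ideal h2,
        ha, hb, Ideal.map_span, Ideal.map_span, Set.image_singleton, Set.image_singleton,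
        Ideal.span_singleton_mul_span_singleton]⟩
  have hc := AlmostBlow.cartier_comap_subschemeι hlp
  have hker : (mprodι f g I J).ker = (HTop.supportedOn P).subschemeι.ker := by
    rw [Scheme.IdealSheafData.ker_subschemeι, Scheme.IdealSheafData.ker_subschemeι, ker_prodInterior]
  have hfac := IsClosedImmersion.lift_fac (HTop.supportedOn P).subschemeι (mprodι f g I J) hker.ge
  haveI := IsClosedImmersion.isIso_lift (HTop.supportedOn P).subschemeι (mprodι f g I J) hker.symm
  have h3 : BlowUp.IsEffCartierIdeal (P.comap (mprodι f g I J)) := by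
    rw [← hfac, Scheme.IdealSheafData.comap_comp]
    exact cartier_comap_flat hc _
  rw [comap_mul, ← Scheme.IdealSheafData.comap_comp, ← Scheme.IdealSheafData.comap_comp] at h3
  exact ⟨cartier_of_mul_left h3, cartier_of_mul_right h3⟩

end Box

section Minimal

variable (IS : S.IdealSheafData) (IX : X.IdealSheafData) (IT : T.IdealSheafData) (p : X ⟶ S) (f : T ⟶ S)

theorem prodInterior_of_minimal (hp : IsAmbient IX IS p) (hf : IsMinimal IT IS f) :
    prodInterior p f IX IT = HTop.awayFrom (IX.comap (pullback.fst p f)) := by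
  rw [AlmostBlow.awayFrom_comap, prodInterior, ← interior_eq_awayFrom, inf_eq_left, preimage_interior hf,
    ← Scheme.Hom.comp_preimage, ← pullback.condition, Scheme.Hom.comp_preimage]
  exact fun z hz => interior_le_preimage hp hz

theorem minimal_cartier (hX : BlowUp.IsEffCartierIdeal IX) (hT : BlowUp.IsEffCartierIdeal IT) :
    BlowUp.IsEffCartierIdeal (IX.comap (mprodι p f IX IT ≫ pullback.fst p f)) :=
  (cartier_mprod p f hX hT).1

theorem ambient_snd (hp : IsAmbient IX IS p) (hf : IsMinimal IT IS f) :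
    IsAmbient (IX.comap (mprodι p f IX IT ≫ pullback.fst p f)) IT (mprodι p f IX IT ≫ pullback.snd p f) := by
  show _ ≤ _
  rw [hf, ← Scheme.IdealSheafData.comap_comp, Category.assoc, ← pullback.condition, ← Category.assoc,
    Scheme.IdealSheafData.comap_comp IS _ p]
  exact Scheme.IdealSheafData.comap_mono _ hp

theorem existsUnique_lift (hT : BlowUp.IsEffCartierIdeal IT) (hX : BlowUp.IsEffCartierIdeal IX)
    (IW : W.IdealSheafData) (hW : BlowUp.IsEffCartierIdeal IW) (a : W ⟶ T) (b : W ⟶ X)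
    (ha : IsAmbient IW IT a) (hb : IsAmbient IW IX b) (w : a ≫ f = b ≫ p) :
    ∃! c : W ⟶ mprod p f IX IT, c ≫ mprodι p f IX IT ≫ pullback.snd p f = a ∧
      c ≫ mprodι p f IX IT ≫ pullback.fst p f = b ∧
      IsAmbient IW (IX.comap (mprodι p f IX IT ≫ pullback.fst p f)) c := by
  obtain ⟨c, hc⟩ := exists_lift_mprod p f IX IT (pullback.lift b a w.symm)
    (by rw [pullback.lift_fst]; exact cartier_comap_of_ambient hW hX hb)
    (by rw [pullback.lift_snd]; exact cartier_comap_of_ambient hW hT ha)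
  refine ⟨c, ⟨by rw [reassoc_of% hc, pullback.lift_snd], by rw [reassoc_of% hc, pullback.lift_fst], ?_⟩, fun c' hc' => ?_⟩
  · show _ ≤ _
    rw [← Scheme.IdealSheafData.comap_comp, reassoc_of% hc, pullback.lift_fst]
    exact hb
  · rw [← cancel_mono (mprodι p f IX IT), hc]
    apply pullback.hom_ext
    · rw [Category.assoc, hc'.2.1, pullback.lift_fst]
    · rw [Category.assoc, hc'.1, pullback.lift_snd]

end Minimal

theorem box_iso (IS : S.IdealSheafData) (IX : X.IdealSheafData) (IT : T.IdealSheafData)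
    (hS : BlowUp.IsEffCartierIdeal IS) (f : X ⟶ S) (g : T ⟶ S) (hf : IsAmbient IX IS f)
    (h₁ : BlowUp.IsEffCartierIdeal (IX.comap (pullback.fst f g)))
    (h₂ : BlowUp.IsEffCartierIdeal (IT.comap (pullback.snd f g))) :
    BlowUp.IsEffCartierIdeal (IS.comap (pullback.fst f g ≫ f)) ∧ IsIso (mprodι f g IX IT) := by
  refine ⟨cartier_comap_of_ambient h₁ hS ?_, isIso_mprodι f g IX IT ?_⟩
  · show _ ≤ _
    rw [Scheme.IdealSheafData.comap_comp IS _ f]
    exact Scheme.IdealSheafData.comap_mono _ hf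
  · rw [ker_prodInterior]
    exact AlmostBlow.supportedOn_eq_bot (cartier_mul h₁ h₂)

theorem flat_box (IS : S.IdealSheafData) (IT : T.IdealSheafData) (IX : X.IdealSheafData)
    (hX : BlowUp.IsEffCartierIdeal IX) (p : X ⟶ S) (hp : IsAmbient IX IS p) (f : T ⟶ S)
    (hf : IsMinimal IT IS f) [Flat f] :
    IsSchemeTheoreticallyDominant (prodInterior p f IX IT).ι ∧ IsIso (mprodι p f IX IT) ∧
      BlowUp.IsEffCartierIdeal (IX.comap (pullback.fst p f)) := by
  haveI : Flat (pullback.fst p f) := MorphismProperty.pullback_fst _ _ inferInstance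
  have hc := cartier_comap_flat hX (pullback.fst p f)
  have hk : (prodInterior p f IX IT).ι.ker = ⊥ := by
    rw [prodInterior_of_minimal IS IX IT p f hp hf]
    exact AlmostBlow.supportedOn_eq_bot hc
  exact ⟨⟨hk⟩, isIso_mprodι p f IX IT hk, hc⟩

section Amb

variable (f : X ⟶ S) (g : T ⟶ S) (I : X.IdealSheafData) (J : T.IdealSheafData)
  (π : Y ⟶ mprod f g I J) (K : Y.IdealSheafData)

theorem ambProd_cartier (hX : BlowUp.IsEffCartierIdeal I) (hT : BlowUp.IsEffCartierIdeal J)
    (hY : IsAmbProd f g I J π K) :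
    BlowUp.IsEffCartierIdeal K ∧
      BlowUp.IsEffCartierIdeal ((I.comap (mprodι f g I J ≫ pullback.fst f g)).comap π) ∧
      BlowUp.IsEffCartierIdeal ((J.comap (mprodι f g I J ≫ pullback.snd f g)).comap π) := by
  obtain ⟨hb, hK⟩ := hY
  have hX' := cartier_comap_blowUp hb (cartier_mprod f g hX hT).1
  have hT' := cartier_comap_blowUp hb (cartier_mprod f g hX hT).2
  have hm := cartier_mul hX' hT'
  rw [← hK] at hm
  exact ⟨cartier_of_mul_left hm, hX', hT'⟩

theorem ambProd_props (hX : BlowUp.IsEffCartierIdeal I) (hT : BlowUp.IsEffCartierIdeal J)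
    (hY : IsAmbProd f g I J π K) :
    BlowUp.IsEffCartierIdeal K ∧ IsAmbient K I (π ≫ mprodι f g I J ≫ pullback.fst f g) ∧
      IsAmbient K J (π ≫ mprodι f g I J ≫ pullback.snd f g) ∧
      interior K = (π ≫ mprodι f g I J) ⁻¹ᵁ prodInterior f g I J := by
  obtain ⟨hc, hX', hT'⟩ := ambProd_cartier f g I J π K hX hT hY
  obtain ⟨hb, hK⟩ := hY
  set A := (I.comap (mprodι f g I J ≫ pullback.fst f g)).comap π
  set B := (J.comap (mprodι f g I J ≫ pullback.snd f g)).comap π
  have hE : (prodCentre f g I J).comap π = A ⊔ B := Scheme.IdealSheafData.comap_sup _ _ _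
  rw [hE] at hK
  have hEc : BlowUp.IsEffCartierIdeal (A ⊔ B) := hE ▸ hb.1
  have hA : K ≤ A := le_of_mul_le_mul hEc (hK.le.trans (mul_mono_right A le_sup_right))
  have hB : K ≤ B := le_of_mul_le_mul hEc (hK.le.trans (by rw [mul_comm A B]; exact mul_mono_right B le_sup_left))
  refine ⟨hc, ?_, ?_, ?_⟩
  · show K ≤ _
    rw [Scheme.IdealSheafData.comap_comp]
    exact hA
  · show K ≤ _
    rw [Scheme.IdealSheafData.comap_comp]
    exact hB
  · have h1 : K.support = A.support ⊔ B.support := by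
      refine le_antisymm ?_ (sup_le (Scheme.IdealSheafData.support_antitone hA) (Scheme.IdealSheafData.support_antitone hB))
      rw [← Scheme.IdealSheafData.support_mul A B, ← hK, Scheme.IdealSheafData.support_mul]
      exact le_sup_left
    rw [prodInterior_eq, interior_eq_awayFrom, ← AlmostBlow.awayFrom_comap, comap_mul]
    simp only [← Scheme.IdealSheafData.comap_comp, Category.assoc]
    ext1
    simp [HTop.awayFrom, h1, A, B, ← Scheme.IdealSheafData.comap_comp]

end Amb

theorem ambProd_map {S₀ S₁ Y₁ Y₀ : Scheme.{u}} (J : T.IdealSheafData) (I : X.IdealSheafData)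
    (hT : BlowUp.IsEffCartierIdeal J) (hX : BlowUp.IsEffCartierIdeal I) (f : X ⟶ S₁) (g : T ⟶ S₁) (σ : S₁ ⟶ S₀)
    (π₁ : Y₁ ⟶ mprod f g I J) (K₁ : Y₁.IdealSheafData) (hY₁ : IsAmbProd f g I J π₁ K₁)
    (π₀ : Y₀ ⟶ mprod (f ≫ σ) (g ≫ σ) I J) (K₀ : Y₀.IdealSheafData)
    (hY₀ : IsAmbProd (f ≫ σ) (g ≫ σ) I J π₀ K₀) :
    (∃! φ : Y₁ ⟶ Y₀, φ ≫ π₀ ≫ mprodι (f ≫ σ) (g ≫ σ) I J = π₁ ≫ mprodι f g I J ≫ pullback.mapDesc f g σ) ∧
      ∀ φ : Y₁ ⟶ Y₀, φ ≫ π₀ ≫ mprodι (f ≫ σ) (g ≫ σ) I J = π₁ ≫ mprodι f g I J ≫ pullback.mapDesc f g σ →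
        IsMinimal K₁ K₀ φ := by
  obtain ⟨-, hA₁, hB₁⟩ := ambProd_cartier f g I J π₁ K₁ hX hT hY₁
  have hfst : pullback.mapDesc f g σ ≫ pullback.fst (f ≫ σ) (g ≫ σ) = pullback.fst f g := by
    simp [pullback.mapDesc]
  have hsnd : pullback.mapDesc f g σ ≫ pullback.snd (f ≫ σ) (g ≫ σ) = pullback.snd f g := by
    simp [pullback.mapDesc]
  obtain ⟨l, hl⟩ := exists_lift_mprod (f ≫ σ) (g ≫ σ) I J (π₁ ≫ mprodι f g I J ≫ pullback.mapDesc f g σ)
    (by rw [Category.assoc, Category.assoc, hfst, Scheme.IdealSheafData.comap_comp]; exact hA₁)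
    (by rw [Category.assoc, Category.assoc, hsnd, Scheme.IdealSheafData.comap_comp]; exact hB₁)
  have eA : (I.comap (mprodι (f ≫ σ) (g ≫ σ) I J ≫ pullback.fst (f ≫ σ) (g ≫ σ))).comap l =
      (I.comap (mprodι f g I J ≫ pullback.fst f g)).comap π₁ := by
    rw [← Scheme.IdealSheafData.comap_comp, ← Scheme.IdealSheafData.comap_comp, reassoc_of% hl, hfst]
  have eB : (J.comap (mprodι (f ≫ σ) (g ≫ σ) I J ≫ pullback.snd (f ≫ σ) (g ≫ σ))).comap l =
      (J.comap (mprodι f g I J ≫ pullback.snd f g)).comap π₁ := by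
    rw [← Scheme.IdealSheafData.comap_comp, ← Scheme.IdealSheafData.comap_comp, reassoc_of% hl, hsnd]
  have eE : (prodCentre (f ≫ σ) (g ≫ σ) I J).comap l = (prodCentre f g I J).comap π₁ := by
    simp only [prodCentre, Scheme.IdealSheafData.comap_sup]
    rw [eA, eB]
  obtain ⟨φ, hφ, huniq⟩ := hY₀.1.2 Y₁ l (eE ▸ hY₁.1.1)
  have hiff : ∀ ψ : Y₁ ⟶ Y₀, ψ ≫ π₀ ≫ mprodι (f ≫ σ) (g ≫ σ) I J = π₁ ≫ mprodι f g I J ≫ pullback.mapDesc f g σ →
      ψ ≫ π₀ = l := fun ψ hψ => by
    rw [← cancel_mono (mprodι (f ≫ σ) (g ≫ σ) I J), hl, Category.assoc]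
    exact hψ
  refine ⟨⟨φ, (by show φ ≫ π₀ ≫ _ = _; rw [reassoc_of% hφ, hl]), fun ψ hψ => huniq ψ (hiff ψ hψ)⟩, fun ψ hψ => ?_⟩
  have e := congrArg (fun I : Y₀.IdealSheafData => I.comap ψ) hY₀.2
  simp only [comap_mul] at e
  rw [← Scheme.IdealSheafData.comap_comp _ ψ π₀, ← Scheme.IdealSheafData.comap_comp _ ψ π₀,
    ← Scheme.IdealSheafData.comap_comp _ ψ π₀, hiff ψ hψ, eE, eA, eB, ← hY₁.2] at e
  exact le_antisymm (le_of_mul_le_mul hY₁.1.1 e.ge) (le_of_mul_le_mul hY₁.1.1 e.le)

end Groth.Agent.ModPairFrac
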