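import Groth.Prelude.Def_W4c6modpairsegaMP
import Groth.Agent.AlmostBlow.Basic
import Mathlib

/-!
# Calculus of fractions for admissible blow-ups of modulus pairs
-/

set_option backward.isDefEq.respectTransparency false
set_option backward.isDefEq.respectTransparency.types false
set_option linter.style.haveILetI false
set_option autoImplicit false

universe u

open CategoryTheory AlgebraicGeometry Limits ModPair

namespace Groth.Agent.ModPairFrac

variable {X Y Z T : Scheme.{u}}

theorem interior_eq_awayFrom (I : X.IdealSheafData) : interior I = HTop.awayFrom I := rfl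

theorem interior_le_preimage {I : X.IdealSheafData} {J : Y.IdealSheafData} {f : X ⟶ Y}
    (h : IsAmbient I J f) : interior I ≤ f ⁻¹ᵁ interior J := by
  rw [interior_eq_awayFrom, interior_eq_awayFrom, ← AlmostBlow.awayFrom_comap]
  exact fun x hx hx' => hx (Scheme.IdealSheafData.support_antitone h hx')

theorem preimage_interior {I : X.IdealSheafData} {J : Y.IdealSheafData} {f : X ⟶ Y}
    (h : IsMinimal I J f) : interior I = f ⁻¹ᵁ interior J := by
  rw [h, interior_eq_awayFrom, interior_eq_awayFrom, AlmostBlow.awayFrom_comap]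

/-- A closed immersion through which a schematically dense open factors is an isomorphism. -/
theorem isIso_of_factor {E : Scheme.{u}} (e : E ⟶ X) [IsClosedImmersion e] {U : X.Opens} (hU : U.ι.ker = ⊥)
    (l : U.toScheme ⟶ E) (hl : l ≫ e = U.ι) : IsIso e := by
  have h : e.ker = ⊥ := le_bot_iff.1 (by rw [← hU, ← hl]; exact l.le_ker_comp e)
  let i := IsClosedImmersion.lift e (𝟙 X) (by rw [h]; exact bot_le)
  haveI : IsSplitEpi e := IsSplitEpi.mk' ⟨i, IsClosedImmersion.lift_fac _ _ _⟩
  exact isIso_of_mono_of_isSplitEpi _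

/-- A closed immersion is an isomorphism over an open that factors through it. -/
theorem isIso_restrict {E : Scheme.{u}} (e : E ⟶ X) [IsClosedImmersion e] (U : X.Opens)
    (l : U.toScheme ⟶ E) (hl : l ≫ e = U.ι) : IsIso (e ∣_ U) := by
  have hp := isPullback_morphismRestrict e U
  obtain ⟨σ, -, hσ⟩ : ∃ σ, σ ≫ (e ⁻¹ᵁ U).ι = l ∧ σ ≫ (e ∣_ U) = 𝟙 _ :=
    ⟨hp.flip.lift l (𝟙 _) (by simpa using hl), hp.flip.lift_fst _ _ _, hp.flip.lift_snd _ _ _⟩
  haveI : IsSplitEpi (e ∣_ U) := IsSplitEpi.mk' ⟨σ, hσ⟩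
  haveI : IsClosedImmersion (e ∣_ U) := IsZariskiLocalAtTarget.restrict (P := @IsClosedImmersion) inferInstance U
  exact isIso_of_mono_of_isSplitEpi _

theorem isMultiplicative : (Pair.admBlowup.{u}).IsMultiplicative where
  id_mem P := by
    refine ⟨(Scheme.IdealSheafData.comap_id P.mod).symm, inferInstanceAs (IsProper (𝟙 P.total)), ?_⟩
    change IsIso (𝟙 P.total ∣_ interior P.mod)
    rw [morphismRestrict_id]
    infer_instance
  comp_mem {P Q R} f g hf hg := by
    obtain ⟨h1, h2, h3⟩ := hf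
    obtain ⟨g1, g2, g3⟩ := hg
    refine ⟨?_, inferInstanceAs (IsProper (f.hom ≫ g.hom)), ?_⟩
    · show _ = _
      rw [h1, g1]
      exact (Scheme.IdealSheafData.comap_comp _ _ _).symm
    · change IsIso ((f.hom ≫ g.hom) ∣_ interior R.mod)
      rw [preimage_interior g1] at h3
      rw [morphismRestrict_comp]
      infer_instance

theorem ext_eq {P Q R : Pair.{u}} (f g : P ⟶ Q) (s : Q ⟶ R) (hs : Pair.admBlowup s)
    (h : f ≫ s = g ≫ s) : f = g := by
  obtain ⟨h1, h2, h3⟩ := hs
  have hfg : f.hom ≫ s.hom = g.hom ≫ s.hom := congrArg Pair.Hom.hom h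
  let w : P.total ⟶ pullback s.hom s.hom := pullback.lift f.hom g.hom hfg
  haveI : IsSeparated s.hom := inferInstance
  let e := pullback.fst w (pullback.diagonal s.hom)
  haveI : IsClosedImmersion e := MorphismProperty.pullback_fst _ _ inferInstance
  let U := interior P.mod
  have hmem : ∀ (k : P ⟶ Q), Set.range (U.ι ≫ k.hom) ⊆ Set.range (interior Q.mod).ι := by
    intro k
    rintro _ ⟨x, rfl⟩
    rw [Scheme.Opens.range_ι]
    exact interior_le_preimage k.cond x.2
  let u₁ := IsOpenImmersion.lift (interior Q.mod).ι (U.ι ≫ f.hom) (hmem f)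
  let u₂ := IsOpenImmersion.lift (interior Q.mod).ι (U.ι ≫ g.hom) (hmem g)
  have hU : U.ι ≫ f.hom = U.ι ≫ g.hom := by
    have hm : Mono ((interior Q.mod).ι ≫ s.hom) := by
      rw [preimage_interior h1, ← morphismRestrict_ι]
      infer_instance
    have : u₁ = u₂ := by
      rw [← cancel_mono ((interior Q.mod).ι ≫ s.hom), IsOpenImmersion.lift_fac_assoc,
        IsOpenImmersion.lift_fac_assoc, Category.assoc, Category.assoc, hfg]
    rw [← IsOpenImmersion.lift_fac (interior Q.mod).ι (U.ι ≫ f.hom) (hmem f), ← IsOpenImmersion.lift_fac (interior Q.mod).ι (U.ι ≫ g.hom) (hmem g)]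
    exact congrArg (· ≫ _) this
  haveI : IsIso e := isIso_of_factor e (AlmostBlow.supportedOn_eq_bot P.isEffCartier)
    (pullback.lift U.ι (U.ι ≫ f.hom) (by apply pullback.hom_ext <;> simp [w, hU]))
    (pullback.lift_fst _ _ _)
  refine Pair.Hom.ext ((cancel_epi e).1 ?_)
  have hc := pullback.condition (f := w) (g := pullback.diagonal s.hom)
  have h1 := congrArg (· ≫ pullback.fst _ _) hc
  have h2 := congrArg (· ≫ pullback.snd _ _) hc
  simp only [w, Category.assoc, pullback.lift_fst, pullback.lift_snd, pullback.diagonal_fst,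
    pullback.diagonal_snd, Category.comp_id] at h1 h2
  exact h1.trans h2.symm

theorem exists_square {P Q R : Pair.{u}} (f : P ⟶ R) (s : Q ⟶ R) (hs : Pair.admBlowup s) :
    ∃ (P' : Pair.{u}) (t : P' ⟶ P) (g : P' ⟶ Q), Pair.admBlowup t ∧ t ≫ f = g ≫ s := by
  obtain ⟨h1, h2, h3⟩ := hs
  let p₁ := pullback.fst f.hom s.hom
  let p₂ := pullback.snd f.hom s.hom
  let 𝓘 := P.mod.comap p₁
  let W := (HTop.supportedOn 𝓘).subscheme
  let ι : W ⟶ pullback f.hom s.hom := (HTop.supportedOn 𝓘).subschemeι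
  have hlp : HTop.IsLocPrincipal 𝓘 := AlmostBlow.isLocPrincipal_comap (fun x => by
    obtain ⟨U, hU, g, -, he⟩ := P.isEffCartier x
    exact ⟨U, hU, g, he⟩) p₁
  have hcart : BlowUp.IsEffCartierIdeal (P.mod.comap (ι ≫ p₁)) := by
    rw [Scheme.IdealSheafData.comap_comp]
    exact AlmostBlow.cartier_comap_subschemeι hlp
  let P' : Pair.{u} := ⟨W, P.mod.comap (ι ≫ p₁), hcart⟩
  have hamb : IsAmbient P'.mod Q.mod (ι ≫ p₂) := by
    show P.mod.comap (ι ≫ p₁) ≤ Q.mod.comap (ι ≫ p₂)
    rw [h1, ← Scheme.IdealSheafData.comap_comp, Category.assoc,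
      show p₂ ≫ s.hom = p₁ ≫ f.hom from pullback.condition.symm, ← Category.assoc,
      Scheme.IdealSheafData.comap_comp _ (ι ≫ p₁) f.hom]
    exact Scheme.IdealSheafData.comap_mono _ f.cond
  refine ⟨P', ⟨ι ≫ p₁, le_rfl⟩, ⟨ι ≫ p₂, hamb⟩, ⟨rfl, ?_, ?_⟩, Pair.Hom.ext ?_⟩
  · haveI : IsProper p₁ := MorphismProperty.pullback_fst _ _ h2
    change IsProper (ι ≫ p₁)
    infer_instance
  · change IsIso ((ι ≫ p₁) ∣_ interior P.mod)
    rw [morphismRestrict_comp]
    have hι : IsIso (ι ∣_ p₁ ⁻¹ᵁ interior P.mod) := by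
      have e : p₁ ⁻¹ᵁ interior P.mod = HTop.awayFrom 𝓘 := (AlmostBlow.awayFrom_comap p₁).symm
      rw [e]
      exact isIso_restrict ι _ (IsClosedImmersion.lift ι (HTop.awayFrom 𝓘).ι (by
        rw [Scheme.IdealSheafData.ker_subschemeι]; exact le_rfl)) (IsClosedImmersion.lift_fac _ _ _)
    have hp : IsIso (p₁ ∣_ interior P.mod) := by
      let V := interior P.mod
      have hsub : Set.range (V.ι ≫ f.hom) ⊆ Set.range (interior R.mod).ι := by
        rintro _ ⟨x, rfl⟩
        rw [Scheme.Opens.range_ι]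
        exact interior_le_preimage f.cond x.2
      let v := IsOpenImmersion.lift (interior R.mod).ι (V.ι ≫ f.hom) hsub
      have hv : v ≫ (interior R.mod).ι = V.ι ≫ f.hom := IsOpenImmersion.lift_fac _ _ _
      have hbig : IsPullback ((p₁ ⁻¹ᵁ V).ι ≫ p₂) (p₁ ∣_ V) s.hom (v ≫ (interior R.mod).ι) := by
        rw [hv]
        exact (isPullback_morphismRestrict p₁ V).flip.paste_horiz (IsPullback.of_hasPullback f.hom s.hom).flip
      have hs' := (isPullback_morphismRestrict s.hom (interior R.mod)).flip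
      let a := hs'.lift ((p₁ ⁻¹ᵁ V).ι ≫ p₂) ((p₁ ∣_ V) ≫ v) (by rw [hbig.w, Category.assoc])
      have h4 : IsPullback a (p₁ ∣_ V) (s.hom ∣_ interior R.mod) v :=
        IsPullback.of_right (by rw [hs'.lift_fst]; exact hbig) (hs'.lift_snd _ _ _) hs'
      exact MorphismProperty.of_isPullback (P := MorphismProperty.isomorphisms _) h4 h3
    infer_instance
  · show (ι ≫ p₁) ≫ f.hom = (ι ≫ p₂) ≫ s.hom
    rw [Category.assoc, Category.assoc, pullback.condition]

theorem hasRightCalculusOfFractions : (Pair.admBlowup.{u}).HasRightCalculusOfFractions where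
  toIsMultiplicative := isMultiplicative
  exists_rightFraction P Q φ := by
    obtain ⟨P', t, g, ht, hw⟩ := exists_square φ.f φ.s φ.hs
    exact ⟨⟨t, ht, g⟩, hw⟩
  ext P Q R f g s hs h :=
    ⟨P, 𝟙 P, isMultiplicative.id_mem P, by rw [ext_eq f g s hs h]⟩

end Groth.Agent.ModPairFrac
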